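import Cfsg.Agent.H7.J4Two.Cert
import Cfsg.Agent.H69.J4.FusionConj
import Cfsg.Agent.H82.J4Iso.Apply
import Cfsg.Agent.H6.Transfer

/-!
In a simple group of `J₄` type every involution is conjugate into the elementary abelian subgroup
of order `2 ^ 11`.

An inner involution of `C(z)` commutes with an element of order three, hence is conjugate into
`C(P)`, whose involutions lie in that subgroup up to conjugation; outer involutions become inner
by Thompson's transfer lemma.
-/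

set_option autoImplicit false
set_option linter.unusedSectionVars false

namespace H7.J4Two

open Subgroup Cfsg.Agent.H69.J4

variable {G : Type*} [Group G] [Finite G]
variable {z : G} {E P N : Subgroup G} {d : Data z E P} (R : Real d)
variable {e : ↥(centralizer ({z} : Set G)) →* MulAut ↥Cfsg.Spor.M22}

/-- The classes in the image of `a + 1`. -/
def InR (m : Bar E) : Prop := ∃ r ∈ rVec, R.φ r = m

theorem inR_mul {a b : Bar E} (ha : InR R a) (hb : InR R b) : InR R (a * b) := by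
  obtain ⟨r, hr, rfl⟩ := ha
  obtain ⟨s, hs, rfl⟩ := hb
  refine ⟨r ^^^ s, ?_, R.φ_xor r s⟩
  simpa using (List.all_eq_true.1 ((List.all_eq_true.1 rVec_xor) r hr)) s hs

theorem inR_one : InR R (1 : Bar E) := ⟨0, by simpa using rVec_zero, R.φ_zero⟩

variable {R} {u : G} (hu : R.IsBase u)
include hu

theorem cent_P : u ∈ centralizer (P : Set G) := mem_centralizer_iff.2 fun p hp => by
  rcases R.g3_gen hp with rfl | rfl | rfl
  · simp
  · exact hu.comm
  · exact ((show Commute (R.g 3 : G) u from hu.comm).mul_left hu.comm).eq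

/-- The base moves every class by an element of the image. -/
theorem inR_move (m : Bar E) : InR R (d.ρ hu.el m * m) := by
  obtain ⟨v, hv, rfl⟩ := R.φ_surj m
  refine ⟨ap mA v ^^^ v, ?_, by rw [R.φ_xor, hu.apply]⟩
  simpa using (List.all_eq_true.1 rVec_ok) v (List.mem_range.2 hv)

/-- Every element of the image is moved onto. -/
theorem exists_move {m : Bar E} (h : InR R m) : ∃ f : Bar E, d.ρ hu.el f * f = m := by
  obtain ⟨r, hr, rfl⟩ := h
  obtain ⟨v, -, hv⟩ := List.any_eq_true.1 ((List.all_eq_true.1 rVec_image) r hr)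
  refine ⟨R.φ v, ?_⟩
  rw [hu.apply, ← R.φ_xor, Nat.eq_of_beq_eq_true hv]

theorem mA_lt : ∀ a ∈ mA, a < 4096 := by
  intro a ha
  rw [← hu.code] at ha
  exact R.mat_lt _ a ha

omit hu in
/-- An element of order three of `H`, acting by the square of the model element. -/
theorem exists_three (R : Real d) :
    ∃ k : ↥(centralizer ({z} : Set G)), orderOf (k : G) = 3 ∧ R.code (d.ρ k) = mH := by
  haveI := R.finite_aut
  set h := R.word hWord with hh
  have hc : R.code (d.ρ h) = evalM hWord := R.mat_word _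
  have h3 : d.ρ h ^ 3 = 1 := R.mat_inj (by
    rw [pow_succ', pow_two, R.mat_mul, R.mat_mul, hc, R.mat_one]
    exact hWord_cube)
  have h1 : d.ρ h ≠ 1 := fun h' => hWord_ne (by rw [← hc, h', R.mat_one])
  have hE : ((h ^ 3 : ↥(centralizer ({z} : Set G))) : G) ∈ E :=
    (d.mem_ker_iff).1 (by rw [map_pow, h3])
  have hsq : d.ρ (h ^ 8192) = d.ρ h * d.ρ h := by
    rw [map_pow, show 8192 = 3 * 2730 + 2 from rfl, pow_add, pow_mul, h3, one_pow, one_mul, pow_two]
  refine ⟨h ^ 8192, ?_, ?_⟩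
  · refine orderOf_eq_prime ?_ fun h' => h1 ?_
    · have := congrArg Subtype.val (pow_card_eq_one' (x := (⟨_, hE⟩ : E)))
      rw [d.cardE] at this
      simp only [SubmonoidClass.coe_pow, OneMemClass.coe_one] at this ⊢
      rw [← pow_mul] at this ⊢
      exact this
    · have h2 : d.ρ (h ^ 8192) = 1 := by
        rw [show h ^ 8192 = 1 from Subtype.ext h', map_one]
      rw [hsq] at h2
      calc d.ρ h = d.ρ h * (d.ρ h * d.ρ h) := by rw [h2, mul_one]
        _ = d.ρ h ^ 3 := by rw [pow_succ', pow_two]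
        _ = 1 := h3
  · rw [hsq, R.mat_mul, hc]
    rfl

/-- The element of order three commutes with the base modulo `E`. -/
theorem code_comm {k : ↥(centralizer ({z} : Set G))} (hk : R.code (d.ρ k) = mH) :
    d.ρ k * d.ρ hu.el = d.ρ hu.el * d.ρ k := by
  have hh : d.ρ (R.word hWord) * d.ρ hu.el = d.ρ hu.el * d.ρ (R.word hWord) := R.mat_inj (by
    rw [R.mat_mul, R.mat_mul, R.mat_word, show R.code (d.ρ hu.el) = mA from hu.code]
    exact hWord_comm)
  have hk2 : d.ρ k = d.ρ (R.word hWord) * d.ρ (R.word hWord) := R.mat_inj (by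
    rw [hk, R.mat_mul, R.mat_word]; rfl)
  rw [hk2]
  exact (Commute.mul_left hh hh).eq

/-- It fixes the fixed classes of the base modulo the image. -/
theorem inR_fix {k : ↥(centralizer ({z} : Set G))} (hk : R.code (d.ρ k) = mH) {m : Bar E}
    (hm : d.ρ hu.el m = m) : InR R (d.ρ k m * m) := by
  obtain ⟨v, hv, rfl⟩ := R.φ_surj m
  rw [hu.apply] at hm
  have hfix : ap mA v = v := R.φ_inj (ap_lt (n := 12) (mA_lt hu) v) hv hm
  refine ⟨ap mH v ^^^ v, ?_, by rw [R.φ_xor, R.apply, hk]⟩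
  have := (List.all_eq_true.1 mH_fix) v (List.mem_range.2 hv)
  simpa [hfix] using this

/-- An element commuting with the base modulo `E` moves the base by a class of the image. -/
theorem conj_base_inR (o : Outer z E P N e) (k : ↥(centralizer ({z} : Set G)))
    (hk : d.ρ k * d.ρ hu.el = d.ρ hu.el * d.ρ k) :
    ∃ c : E, (k : G) * u * (k : G)⁻¹ = u * c ∧ InR R (QuotientGroup.mk c) := by
  obtain ⟨a, ha, hn⟩ := o.frattini d k
  set aH : ↥(centralizer ({z} : Set G)) := ⟨a, d.L.le_H ha⟩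
  set nH : ↥(centralizer ({z} : Set G)) := aH⁻¹ * k with hnH
  set n : G := a⁻¹ * k with hndef
  have hρn : d.ρ nH = d.ρ k := by
    rw [hnH, map_mul, map_inv, (d.mem_ker_iff).2 (show (aH : G) ∈ E from ha), inv_one, one_mul]
  set x : G := u⁻¹ * (n * u * n⁻¹) with hx
  have hxE : x ∈ E := (d.mem_ker_iff (h := hu.el⁻¹ * (nH * hu.el * nH⁻¹))).1 (by
    rw [map_mul, map_mul, map_mul, map_inv, map_inv, hρn, hk, mul_inv_cancel_right, inv_mul_cancel])
  have huP : u ∈ centralizer (P : Set G) := cent_P hu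
  have hnu : n * u * n⁻¹ ∈ centralizer (P : Set G) := mem_centralizer_iff.2 fun p hp => by
    have h' : n⁻¹ * p * n ∈ P := (mem_normalizer_iff''.1 hn p).1 hp
    have hc := mem_centralizer_iff.1 huP _ h'
    calc p * (n * u * n⁻¹) = n * ((n⁻¹ * p * n) * u) * n⁻¹ := by group
      _ = n * (u * (n⁻¹ * p * n)) * n⁻¹ := by rw [hc]
      _ = n * u * n⁻¹ * p := by group
  have hxz : x = 1 ∨ x = z := d.fixP x hxE fun p hp =>
    mem_centralizer_iff.1 (mul_mem (inv_mem huP) hnu) p hp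
  -- the class of `u⁻¹ a u a⁻¹`
  have hcE : u⁻¹ * (k * u * (k : G)⁻¹) ∈ E := (d.mem_ker_iff (h := hu.el⁻¹ * (k * hu.el * k⁻¹))).1 (by
    rw [map_mul, map_mul, map_mul, map_inv, map_inv, hk, mul_inv_cancel_right, inv_mul_cancel])
  refine ⟨⟨_, hcE⟩, (mul_inv_cancel_left _ _).symm, ?_⟩
  have h1 : u⁻¹ * (k * u * (k : G)⁻¹) = (u⁻¹ * a * u) * (x * a⁻¹) := by
    rw [hx, hndef]; group
  have huaE : u⁻¹ * a * u ∈ E := by
    have := d.L.conj_mem (inv_mem hu.el.2) ha
    simpa [Real.IsBase.el] using this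
  have h2 : (QuotientGroup.mk (⟨_, hcE⟩ : E) : Bar E) =
      d.ρ hu.el⁻¹ (QuotientGroup.mk (⟨a, ha⟩ : E)) * QuotientGroup.mk (⟨a, ha⟩ : E) := by
    have hxa : (QuotientGroup.mk (⟨x, hxE⟩ : E) : Bar E) = 1 := (d.mk_eq_one).2 hxz
    rw [show (⟨_, hcE⟩ : E) = ⟨u⁻¹ * a * u, huaE⟩ * (⟨x, hxE⟩ * ⟨a, ha⟩⁻¹) from Subtype.ext h1,
      QuotientGroup.mk_mul, QuotientGroup.mk_mul, QuotientGroup.mk_inv, hxa, one_mul,
      inv_eq_of_mul_eq_one_right (d.sq_bar _), d.ρ_mk]
    congr 2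
    exact Subtype.ext (by simp [Real.IsBase.el])
  rw [h2, show hu.el⁻¹ = hu.el from Subtype.ext hu.inv]
  exact inR_move hu _

/-- An involution of `H` over the base commutes with an element of order three. -/
theorem exists_commute_three (o : Outer z E P N e) {y : G} (hy : y ∈ centralizer ({z} : Set G))
    (hy2 : y * y = 1) (hρ : d.ρ ⟨y, hy⟩ = d.ρ hu.el) : ∃ q : G, orderOf q = 3 ∧ Commute q y := by
  classical
  letI := d.barGroup
  haveI : Fact (Nat.Prime 3) := ⟨Nat.prime_three⟩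
  obtain ⟨k, hk3, hkc⟩ := exists_three R
  set yH : ↥(centralizer ({z} : Set G)) := ⟨y, hy⟩
  have hwE : u⁻¹ * y ∈ E := (d.mem_ker_iff (h := hu.el⁻¹ * yH)).1 (by
    rw [map_mul, map_inv, hρ, inv_mul_cancel])
  set w : E := ⟨u⁻¹ * y, hwE⟩ with hwdef
  set m0 : Bar E := QuotientGroup.mk w with hm0
  -- the class of `w` is fixed
  have hfix : d.ρ hu.el m0 = m0 := by
    rw [← show hu.el⁻¹ = hu.el from Subtype.ext hu.inv, hm0, d.ρ_mk]
    have h1 : (⟨((hu.el⁻¹ : ↥(centralizer ({z} : Set G))) : G) * w *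
        ((hu.el⁻¹ : ↥(centralizer ({z} : Set G))) : G)⁻¹, d.L.conj_mem (hu.el⁻¹).2 w.2⟩ : E) = w⁻¹ := by
      refine Subtype.ext ?_
      show u⁻¹ * (u⁻¹ * y) * u⁻¹⁻¹ = (u⁻¹ * y)⁻¹
      rw [inv_inv, mul_inv_rev, inv_inv, inv_eq_of_mul_eq_one_right hy2]
      rw [show u⁻¹ * (u⁻¹ * y) = (u * u)⁻¹ * y by group, R.V0_sq hu.mem]
      simp
    rw [h1, QuotientGroup.mk_inv, inv_eq_of_mul_eq_one_right (d.sq_bar _)]
  obtain ⟨c₀, hc₀, hc₀R⟩ := conj_base_inR hu o k (code_comm hu hkc)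
  -- the set of classes near `w`
  set T : Set E := {c | InR R (QuotientGroup.mk c * m0)} with hT
  have hmove : ∀ c : E, c ∈ T →
      c₀ * ⟨(k : G) * c * (k : G)⁻¹, d.L.conj_mem k.2 c.2⟩ ∈ T := by
    intro c hc
    show InR R (QuotientGroup.mk _ * m0)
    rw [QuotientGroup.mk_mul, ← d.ρ_mk]
    set m : Bar E := QuotientGroup.mk c
    have hm : d.ρ hu.el m = m := by
      obtain ⟨f, hf⟩ := exists_move hu hc
      have h2 : d.ρ hu.el (m * m0) = m * m0 := by
        rw [← hf, map_mul, ← MulAut.mul_apply, ← map_mul,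
          show hu.el * hu.el = 1 from Subtype.ext (R.V0_sq hu.mem), map_one, MulAut.one_apply,
          mul_comm]
      rw [map_mul, hfix] at h2
      exact mul_right_cancel h2
    have h3 := inR_mul R (inR_mul R hc₀R (inR_fix hu hkc hm)) hc
    convert h3 using 1
    calc QuotientGroup.mk c₀ * d.ρ k m * m0 = QuotientGroup.mk c₀ * d.ρ k m * (m * m) * m0 := by
          rw [d.sq_bar, mul_one]
      _ = QuotientGroup.mk c₀ * (d.ρ k m * m) * (m * m0) := by simp only [mul_assoc]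
  -- thirty-two of them
  have hcard : Nat.card T = 32 := by
    let S : Set (Bar E) := {m | InR R (m * m0)}
    have hS : Nat.card S = 16 := by
      let f : {r // r ∈ rVec} → S := fun r => ⟨R.φ r.1 * m0, by
        show InR R (R.φ r.1 * m0 * m0)
        rw [mul_assoc, d.sq_bar, mul_one]
        exact ⟨r.1, r.2, rfl⟩⟩
      have hf : Function.Bijective f := by
        refine ⟨fun a b h => ?_, fun m => ?_⟩
        · have h' := mul_right_cancel (congrArg Subtype.val h)
          exact Subtype.ext (R.φ_inj (by simpa using (List.all_eq_true.1 rVec_lt) a.1 a.2)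
            (by simpa using (List.all_eq_true.1 rVec_lt) b.1 b.2) h')
        · obtain ⟨r, hr, hrm⟩ := m.2
          exact ⟨⟨r, hr⟩, Subtype.ext (by
            show R.φ r * m0 = m.1
            rw [hrm, mul_assoc, d.sq_bar, mul_one])⟩
      rw [← Nat.card_congr (Equiv.ofBijective f hf),
        Nat.card_congr (Equiv.subtypeEquivRight (fun r => (List.mem_toFinset (l := rVec)).symm)),
        Nat.card_eq_finsetCard, List.toFinset_card_of_nodup rVec_nodup.1, rVec_len]
    show Nat.card ↥((QuotientGroup.mk : ↥E → Bar E) ⁻¹' S) = 32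
    rw [Nat.card_congr (QuotientGroup.preimageMkEquivSubgroupProdSet (center ↥E) S), Nat.card_prod,
      d.L.hext.2, hS]
  -- a fixed point
  let g : T → T := fun c => ⟨_, hmove c.1 c.2⟩
  have hgeq : ∀ c : T, u * ((g c).1 : G) = (k : G) * (u * (c.1 : G)) * (k : G)⁻¹ := by
    intro c
    show u * ((c₀ : G) * ((k : G) * (c.1 : G) * (k : G)⁻¹)) = _
    rw [← mul_assoc, ← hc₀]
    group
  have hginj : Function.Injective g := fun a b h => by
    have h1 := hgeq a
    rw [h, hgeq b] at h1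
    exact Subtype.ext (Subtype.ext (mul_left_cancel (mul_left_cancel (mul_right_cancel h1.symm))))
  haveI : Fintype T := Fintype.ofFinite _
  let σ : Equiv.Perm T := Equiv.ofBijective g (Finite.injective_iff_bijective.1 hginj)
  have hk3' : (k : G) ^ 3 = 1 := by rw [← hk3]; exact pow_orderOf_eq_one _
  have hσ : σ ^ 3 ^ 1 = 1 := Equiv.ext fun c => by
    show g (g (g c)) = c
    have h1 : u * ((g (g (g c))).1 : G) = u * (c.1 : G) := by
      rw [hgeq, hgeq, hgeq,
        show (k : G) * ((k : G) * ((k : G) * (u * (c.1 : G)) * (k : G)⁻¹) * (k : G)⁻¹) * (k : G)⁻¹ =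
          (k : G) ^ 3 * (u * (c.1 : G)) * ((k : G) ^ 3)⁻¹ by simp [pow_succ, mul_assoc], hk3']
      simp
    exact Subtype.ext (Subtype.ext (mul_left_cancel h1))
  obtain ⟨c, hc⟩ := Equiv.Perm.exists_fixed_point_of_prime (p := 3) (n := 1)
    (by rw [← Nat.card_eq_fintype_card, hcard]; norm_num) hσ
  have hkc' : (k : G) * (u * (c.1 : G)) * (k : G)⁻¹ = u * (c.1 : G) := by
    rw [← hgeq]; exact congrArg (fun t : T => u * (t.1 : G)) hc
  -- `y` is conjugate to it, up to `z`
  obtain ⟨f, hf⟩ := exists_move hu (show InR R (QuotientGroup.mk c.1 * m0) from c.2)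
  obtain ⟨f, rfl⟩ := QuotientGroup.mk_surjective f
  have hfy : (f : G) * y * (f : G)⁻¹ = u * ((u⁻¹ * f * u) * w * (f : G)⁻¹) := by
    rw [show ((w : E) : G) = u⁻¹ * y from rfl]; group
  have hd : (f : G) * y * (f : G)⁻¹ = u * (c.1 : G) ∨ (f : G) * y * (f : G)⁻¹ = u * (c.1 : G) * z := by
    rw [hfy]
    have h1 : (QuotientGroup.mk ((⟨u⁻¹ * f * u, by simpa [Real.IsBase.el] using d.L.conj_mem (inv_mem hu.el.2) f.2⟩ : E) *
        w * f⁻¹) : Bar E) = QuotientGroup.mk c.1 := by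
      rw [QuotientGroup.mk_mul, QuotientGroup.mk_mul, QuotientGroup.mk_inv,
        inv_eq_of_mul_eq_one_right (d.sq_bar _), mul_assoc,
        mul_comm (QuotientGroup.mk w : Bar E), ← mul_assoc]
      have h2 : (QuotientGroup.mk (⟨u⁻¹ * f * u, by simpa [Real.IsBase.el] using d.L.conj_mem (inv_mem hu.el.2) f.2⟩ : E) : Bar E) =
          d.ρ hu.el (QuotientGroup.mk f) := by
        rw [show d.ρ hu.el = d.ρ hu.el⁻¹ from congrArg d.ρ (Subtype.ext hu.inv.symm), d.ρ_mk]
        exact congrArg QuotientGroup.mk (Subtype.ext (by simp [Real.IsBase.el]))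
      rw [h2, hf, mul_assoc, d.sq_bar, mul_one]
    rcases (d.mk_eq_iff).1 h1.symm with e' | e'
    · exact Or.inl (congrArg (u * ·) e')
    · refine Or.inr ?_
      rw [mul_assoc u]
      exact congrArg (u * ·) e'
  have hcomm : Commute (k : G) ((f : G) * y * (f : G)⁻¹) := by
    have h1 : Commute (k : G) (u * (c.1 : G)) := mul_inv_eq_iff_eq_mul.1 hkc'
    rcases hd with h | h <;> rw [h]
    · exact h1
    · exact h1.mul_right (mem_centralizer_singleton_iff.1 k.2)
  refine ⟨(f : G)⁻¹ * k * f, ?_, ?_⟩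
  · rw [show (f : G)⁻¹ * k * f = MulAut.conj (f : G)⁻¹ k by simp [mul_assoc],
      MulEquiv.orderOf_eq, hk3]
  · show (f : G)⁻¹ * k * f * y = y * ((f : G)⁻¹ * k * f)
    calc (f : G)⁻¹ * k * f * y = (f : G)⁻¹ * ((k : G) * ((f : G) * y * (f : G)⁻¹)) * f := by group
      _ = (f : G)⁻¹ * ((f : G) * y * (f : G)⁻¹ * k) * f := by rw [hcomm.eq]
      _ = _ := by group

/-- An involution centralising `P` is conjugate into the elementary subgroup. -/
theorem exists_conj_of_cent_P (o : Outer z E P N e) {y : G}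
    (hyH : y ∈ centralizer ({z} : Set G)) (hyP : y ∈ centralizer (P : Set G)) (hy2 : y * y = 1) :
    ∃ g : G, g * y * g⁻¹ ∈ R.V0 := by
  by_cases hE : y ∈ E
  · refine ⟨1, ?_⟩
    rw [one_mul, inv_one, mul_one]
    rcases d.fixP y hE fun p hp => mem_centralizer_iff.1 hyP p hp with rfl | rfl
    · exact one_mem _
    · exact R.sHat_le_V0 R.z_mem_sHat
  set yH : ↥(centralizer ({z} : Set G)) := ⟨y, hyH⟩
  obtain ⟨c, hc, hcode⟩ := R.exists_conj_code o (x := d.ρ yH) ⟨yH, mem_subgroupOf.2 hyP, rfl⟩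
    (by rw [← map_mul, show yH * yH = 1 from Subtype.ext hy2, map_one])
    (fun h => hE ((d.mem_ker_iff).1 h))
  refine ⟨c, ?_⟩
  set y' : G := (c : G) * y * (c : G)⁻¹ with hy'
  have hy'E : u⁻¹ * y' ∈ E := (d.mem_ker_iff (h := hu.el⁻¹ * (c * yH * c⁻¹))).1 (by
    rw [map_mul, map_mul, map_mul, map_inv, map_inv]
    rw [show d.ρ c * d.ρ yH * (d.ρ c)⁻¹ = d.ρ hu.el from R.mat_inj (hcode.trans hu.code.symm),
      inv_mul_cancel])
  have hy'P : y' ∈ centralizer (P : Set G) :=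
    mul_mem (mul_mem (mem_subgroupOf.1 hc) hyP) (inv_mem (mem_subgroupOf.1 hc))
  have hxV : u⁻¹ * y' ∈ R.V0 := by
    rcases d.fixP _ hy'E fun p hp =>
      mem_centralizer_iff.1 (mul_mem (inv_mem (cent_P hu)) hy'P) p hp with e' | e'
    · rw [e']; exact one_mem _
    · rw [e']; exact R.sHat_le_V0 R.z_mem_sHat
  have := mul_mem hu.mem hxV
  rwa [mul_inv_cancel_left] at this

omit hu in
/-- An involution of the linear part of `H` is in `E` or commutes with an element of order three. -/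
theorem inner_dichotomy (R : Real d) (o : Outer z E P N e) {y : G}
    (hy : y ∈ centralizer ({z} : Set G)) (hy2 : y * y = 1) (hY : d.ρ ⟨y, hy⟩ ∈ Outer.Y d) :
    y ∈ E ∨ ∃ q : G, orderOf q = 3 ∧ Commute q y := by
  by_cases hE : y ∈ E
  · exact Or.inl hE
  right
  obtain ⟨u, hu⟩ := R.exists_base
  set yH : ↥(centralizer ({z} : Set G)) := ⟨y, hy⟩
  obtain ⟨c, -, hcode⟩ := R.exists_conj_code o hY
    (by rw [← map_mul, show yH * yH = 1 from Subtype.ext hy2, map_one])
    (fun h => hE ((d.mem_ker_iff).1 h))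
  have hρ : d.ρ (c * yH * c⁻¹) = d.ρ hu.el := R.mat_inj (by
    rw [map_mul, map_mul, map_inv, hcode]; exact hu.code.symm)
  have hy'2 : ((c : G) * y * (c : G)⁻¹) * ((c : G) * y * (c : G)⁻¹) = 1 := by
    rw [← MulAut.conj_apply, ← map_mul, hy2, map_one]
  obtain ⟨q, hq, hqc⟩ := exists_commute_three hu o (c * yH * c⁻¹).2 hy'2 hρ
  refine ⟨(c : G)⁻¹ * q * c, ?_, ?_⟩
  · rw [show (c : G)⁻¹ * q * c = MulAut.conj (c : G)⁻¹ q by simp [mul_assoc], MulEquiv.orderOf_eq, hq]
  · show (c : G)⁻¹ * q * c * y = y * ((c : G)⁻¹ * q * c)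
    calc (c : G)⁻¹ * q * c * y = (c : G)⁻¹ * (q * ((c : G) * y * (c : G)⁻¹)) * c := by group
      _ = (c : G)⁻¹ * ((c : G) * y * (c : G)⁻¹ * q) * c := by rw [show q * ((c : G) * y * (c : G)⁻¹) = (c : G) * y * (c : G)⁻¹ * q from hqc]
      _ = _ := by group

omit hu in
/-- Every involution is conjugate into the linear part of `C(z)`. -/
theorem exists_conj_inner [IsSimpleGroup G] (hG : ¬ IsMulCommutative G) (R : Real d)
    (o : Outer z E P N e) {y : G} (hy : orderOf y = 2) :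
    ∃ (g : G) (h : g * y * g⁻¹ ∈ centralizer ({z} : Set G)), d.ρ ⟨_, h⟩ ∈ Outer.Y d := by
  classical
  haveI : Fact (Nat.Prime 2) := ⟨Nat.prime_two⟩
  haveI := R.finite_aut
  obtain ⟨S⟩ := (inferInstance : Nonempty (Sylow 2 ↥(centralizer ({z} : Set G))))
  obtain ⟨Q, hQ⟩ := (S.isPGroup'.map (centralizer ({z} : Set G)).subtype).exists_le_sylow
  have hQS := centralizer_sylow_is_sylow d S Q hQ
  set M : Subgroup ↥(centralizer ({z} : Set G)) :=
    (S : Subgroup ↥(centralizer ({z} : Set G))) ⊓ (Outer.Y d).comap d.ρ with hM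
  obtain ⟨a, haS, haY⟩ : ∃ a ∈ (S : Subgroup ↥(centralizer ({z} : Set G))), d.ρ a ∉ Outer.Y d := by
    by_contra hc
    push Not at hc
    have hle : (S : Subgroup ↥(centralizer ({z} : Set G))).map d.ρ ≤ Outer.Y d := by
      rintro _ ⟨a, ha, rfl⟩; exact hc a ha
    have h1 : 256 ∣ Nat.card ((S : Subgroup ↥(centralizer ({z} : Set G))).map d.ρ) := by
      have h2 : Nat.card ((S : Subgroup ↥(centralizer ({z} : Set G))).map d.ρ) =
          Nat.card (d.ρ.comp (S : Subgroup ↥(centralizer ({z} : Set G))).subtype).range := by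
        rw [MonoidHom.range_comp, Subgroup.range_subtype]
      have h3 := Subgroup.card_mul_index (d.ρ.comp (S : Subgroup ↥(centralizer ({z} : Set G))).subtype).ker
      rw [Subgroup.index_ker, ← h2, R.sylow_card o S] at h3
      have h4 : Nat.card (d.ρ.comp (S : Subgroup ↥(centralizer ({z} : Set G))).subtype).ker ≤ 2 ^ 13 := by
        rw [← d.cardE]
        exact Nat.card_le_card_of_injective (fun v => (⟨v.1.1.1, (d.mem_ker_iff).1 (MonoidHom.mem_ker.1 v.2)⟩ : E))
          fun a b h => Subtype.ext (Subtype.ext (Subtype.ext (congrArg (fun q : E => (q : G)) h)))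
      obtain ⟨i, hi⟩ := ((S.isPGroup'.map d.ρ).exists_card_eq)
      rw [hi] at h3 ⊢
      refine pow_dvd_pow 2 (show 8 ≤ i from ?_)
      by_contra h8
      have : 2 ^ i ≤ 2 ^ 7 := Nat.pow_le_pow_right (by norm_num) (by omega)
      have := Nat.mul_le_mul h4 this
      omega
    exact absurd (h1.trans ((Subgroup.card_dvd_of_le hle).trans (o.card_Y_dvd d))) (by norm_num)
  have hidx : M.relIndex (S : Subgroup ↥(centralizer ({z} : Set G))) = 2 := by
    rw [Subgroup.relIndex, hM, Subgroup.inf_subgroupOf_left]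
    refine Subgroup.index_eq_two_iff.2 ⟨⟨a, haS⟩, fun b => ?_⟩
    simp only [mem_subgroupOf, mem_comap, Subgroup.coe_mul, map_mul]
    by_cases hb : d.ρ b.1 ∈ Outer.Y d
    · exact Or.inr ⟨hb, fun h => haY ((mul_mem_cancel_left hb).1 h)⟩
    · exact Or.inl ⟨(map_mul d.ρ b.1 a) ▸ R.mul_mem_Y o hb haY, hb⟩
  have hrel : (M.map (centralizer ({z} : Set G)).subtype).relIndex (Q : Subgroup G) = 2 := by
    rw [hQS, Subgroup.relIndex_map_map_of_injective _ _ (centralizer ({z} : Set G)).subtype_injective,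
      hidx]
  rcases H6.thompson_transfer Q (M.map (centralizer ({z} : Set G)).subtype)
    (by rw [hQS]; exact map_mono inf_le_left) hrel y hy with ⟨K, hK, hK2, -⟩ | ⟨g, x, hx, hxe⟩
  · exfalso
    rcases hK.eq_bot_or_eq_top with h | h
    · rw [h, Subgroup.index_bot] at hK2
      haveI : Fact (Nat.Prime 2) := ⟨Nat.prime_two⟩
      haveI := isCyclic_of_prime_card hK2
      exact hG ⟨⟨(IsCyclic.commGroup (α := G)).mul_comm⟩⟩
    · rw [h, Subgroup.index_top] at hK2
      omega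
  · have hgH : g * y * g⁻¹ ∈ centralizer ({z} : Set G) := hxe ▸ x.2
    refine ⟨g, hgH, ?_⟩
    rw [show (⟨_, hgH⟩ : ↥(centralizer ({z} : Set G))) = x from Subtype.ext hxe.symm]
    exact hx.2

omit hu in
/-- In a simple group of `J₄` type every involution is conjugate into the elementary subgroup of
order `2 ^ 11`. -/
theorem exists_conj_V0 [IsSimpleGroup G] (hG : ¬ IsMulCommutative G)
    (hJ : Cfsg.IsOfJankoFourTypeWith z P) (R : Real d) {y : G} (hy2 : y * y = 1) :
    ∃ g : G, g * y * g⁻¹ ∈ R.V0 := by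
  rcases eq_or_ne y 1 with rfl | hy1
  · exact ⟨1, by simp [one_mem]⟩
  obtain ⟨N, e, o⟩ := outer_of_type hJ
  obtain rfl : E = Cfsg.twoCoreOfCentralizer z := d.L.hE
  obtain ⟨g₁, hH, hY⟩ := exists_conj_inner hG R o (orderOf_eq_prime (by rw [pow_two, hy2]) hy1)
  set y₁ : G := g₁ * y * g₁⁻¹ with hy₁
  have hy₁2 : y₁ * y₁ = 1 := by rw [hy₁, ← MulAut.conj_apply, ← map_mul, hy2, map_one]
  rcases inner_dichotomy R o hH hy₁2 hY with hE | ⟨q, hq, hqy⟩
  · rcases eq_or_ne y₁ z with h | hz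
    · exact ⟨g₁, by rw [← hy₁, h]; exact R.sHat_le_V0 R.z_mem_sHat⟩
    have hy₁1 : y₁ ≠ 1 := fun h => hy1 (conj_eq_one_iff.1 h)
    obtain ⟨h, -, hs⟩ := R.exists_conj_sHat hE hy₁2 hy₁1 hz
    refine ⟨h * g₁, ?_⟩
    rw [show h * g₁ * y * (h * g₁)⁻¹ = h * y₁ * h⁻¹ by rw [hy₁]; group]
    exact hs
  · obtain ⟨p, hp, hp1, hp3, hall⟩ := Outer.exists_gen d
    have hop : orderOf p = 3 :=
      orderOf_eq_prime (hp := ⟨Nat.prime_three⟩) (by rw [pow_succ, pow_two]; exact hp3) hp1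
    obtain ⟨g₂, hg₂⟩ := isConj_iff.1 (Cfsg.Agent.H82.J4Iso.one_class_three hG hJ q p hq hop)
    set y₂ : G := g₂ * y₁ * g₂⁻¹ with hy₂
    have hcp : Commute p y₂ := by
      rw [← hg₂, hy₂]; exact hqy.map (MulAut.conj g₂).toMonoidHom
    have hy₂P : y₂ ∈ centralizer (P : Set G) := mem_centralizer_iff.2 fun v hv => by
      rcases hall v hv with rfl | rfl | rfl
      · simp
      · exact hcp.eq
      · exact (hcp.mul_left hcp).eq
    have hy₂H : y₂ ∈ centralizer ({z} : Set G) :=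
      Cfsg.Agent.H82.J4Iso.normalizer_le hG hJ (centralizer_le_normalizer _ hy₂P)
    have hy₂2 : y₂ * y₂ = 1 := by rw [hy₂, ← MulAut.conj_apply, ← map_mul, hy₁2, map_one]
    obtain ⟨u, hu⟩ := R.exists_base
    obtain ⟨g₃, hg₃⟩ := exists_conj_of_cent_P hu o hy₂H hy₂P hy₂2
    refine ⟨g₃ * g₂ * g₁, ?_⟩
    rw [show g₃ * g₂ * g₁ * y * (g₃ * g₂ * g₁)⁻¹ = g₃ * y₂ * g₃⁻¹ by rw [hy₂, hy₁]; group]
    exact hg₃

end H7.J4Two
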