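import Cfsg.Agent.H69.J4.FusionModel

/-!
The model element of order three centralising the base involution `a` and acting trivially on the
fixed space of `a` modulo the image of `a + 1`.
-/

set_option autoImplicit false
set_option maxRecDepth 20000

namespace H7.J4Two

open Cfsg.Agent.H69.J4

/-- A word for an element of order three. -/
def hWord : List ℕ := [0, 0, 1, 2, 0, 0, 1, 0, 2, 0, 1, 1, 3]

/-- The matrix of its square. -/
def mH : List ℕ := mm (evalM hWord) (evalM hWord)

theorem hWord_cube : mm (evalM hWord) mH = mI := by decide +kernel

theorem hWord_ne : evalM hWord ≠ mI := by decide +kernel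

theorem hWord_comm : mm (evalM hWord) mA = mm mA (evalM hWord) := by decide +kernel

theorem mH_fix : ((List.range 4096).all fun v => !Nat.beq (ap mA v) v ||
    rVec.contains (ap mH v ^^^ v)) = true := by decide +kernel

theorem rVec_xor : (rVec.all fun a => rVec.all fun b => rVec.contains (a ^^^ b)) = true := by
  decide +kernel

theorem rVec_zero : rVec.contains 0 = true := by decide +kernel

theorem rVec_image : (rVec.all fun r => (List.range 4096).any fun v =>
    Nat.beq (ap mA v ^^^ v) r) = true := by decide +kernel

theorem rVec_lt : (rVec.all fun r => Nat.blt r 4096) = true := by decide +kernel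

theorem rVec_len : rVec.length = 16 := rVec_nodup.2

end H7.J4Two
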